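import Cfsg.Agent.Spor.PX0

set_option autoImplicit false
set_option maxRecDepth 100000000
noncomputable section

namespace Cfsg.Agent.Spor.ThM

def Lu : List (List Nat) := [[], [30], [0, 2, 4, 8], [30, 0, 2, 4, 8], [0, 6, 10], [30, 0, 6, 10], [2, 4, 6, 8, 10], [30, 2, 4, 6, 8, 10], [6, 12], [30, 6, 12], [0, 2, 4, 6, 8, 12], [30, 0, 2, 4, 6, 8, 12], [0, 10, 12], [30, 0, 10, 12], [2, 4, 8, 10, 12], [30, 2, 4, 8, 10, 12], [4, 6, 14], [30, 4, 6, 14], [0, 2, 6, 8, 14], [30, 0, 2, 6, 8, 14], [0, 4, 10, 14], [30, 0, 4, 10, 14], [2, 8, 10, 14], [30, 2, 8, 10, 14], [4, 12, 14], [30, 4, 12, 14], [0, 2, 8, 12, 14], [30, 0, 2, 8, 12, 14], [0, 4, 6, 10, 12, 14], [30, 0, 4, 6, 10, 12, 14], [2, 6, 8, 10, 12, 14], [30, 2, 6, 8, 10, 12, 14]]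
def Le : List (List Nat) := [[], [30], [0, 2, 6], [30, 0, 2, 6], [0, 2, 4, 10], [30, 0, 2, 4, 10], [4, 6, 10], [30, 4, 6, 10], [4, 8, 12], [30, 4, 8, 12], [0, 2, 4, 6, 8, 12], [30, 0, 2, 4, 6, 8, 12], [0, 2, 8, 10, 12], [30, 0, 2, 8, 10, 12], [6, 8, 10, 12], [30, 6, 8, 10, 12], [0, 4, 8, 14], [30, 0, 4, 8, 14], [2, 4, 6, 8, 14], [30, 2, 4, 6, 8, 14], [2, 8, 10, 14], [30, 2, 8, 10, 14], [0, 6, 8, 10, 14], [30, 0, 6, 8, 10, 14], [0, 12, 14], [30, 0, 12, 14], [2, 6, 12, 14], [30, 2, 6, 12, 14], [2, 4, 10, 12, 14], [30, 2, 4, 10, 12, 14], [0, 4, 6, 10, 12, 14], [30, 0, 4, 6, 10, 12, 14]]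
def GW8 : List (List Nat) := [[15, 10, 10, 8, 6, 4, 7, 9, 11, 11, 14], [6, 14, 12, 11, 8, 6, 4, 7, 9, 10, 13, 15, 7], [10, 14, 12, 11, 8, 6, 4, 7, 9, 10, 13, 15, 11], [11, 6, 15, 10, 8, 6, 4, 7, 9, 11, 14, 7, 10], [8, 11, 6, 15, 8, 6, 4, 7, 9, 14, 7, 10, 9], [6, 4, 7, 8, 10, 14, 6, 4, 7, 15, 11, 9], [13, 10, 8, 10, 15, 6, 4, 7, 14, 11, 9, 11, 12], [12, 10, 6, 14, 8, 6, 4, 7, 9, 15, 7, 11, 13], [6, 12, 14, 6, 14], [6, 10, 13, 14, 6, 14, 10], [0, 11, 11, 11, 14, 6, 10, 14, 6], [0, 11, 14, 6, 10, 14, 6, 11, 11], [0, 14, 6, 11, 12, 14, 6, 14, 11, 12], [0, 14, 6, 8, 11, 14, 10, 10, 8, 14, 6], [0, 8, 6, 10, 13, 14, 6, 10, 8, 13, 14]]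

end Cfsg.Agent.Spor.ThM
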